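import Groth.Agent.HypAcyc.Chain
import Groth.Prelude.Def_Hyper
import Mathlib

/-!
The free chain complex of sheaves of a simplicial presheaf with local fillers is a resolution of `ℤ`.
-/

set_option autoImplicit false
set_option backward.isDefEq.respectTransparency false

universe u

open CategoryTheory CategoryTheory.Limits Opposite Simplicial AlgebraicTopology

noncomputable section

namespace Groth.Agent.HypAcyc

variable {C : Type u} [SmallCategory C] {J : GrothendieckTopology C}
  {P : SimplicialObject (Cᵒᵖ ⥤ Type u)}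

variable (P) in
/-- the presheaf chain complex `ℤ[P]` -/
abbrev preCx : ChainComplex (Cᵒᵖ ⥤ AddCommGrpCat.{u}) ℕ :=
  (alternatingFaceMapComplex _).obj (P ⋙ (Functor.whiskeringRight _ _ _).obj AddCommGrpCat.free.{u})

theorem preCx_d {n : ℕ} {U : C} (x : Ch P (n + 1) U) :
    ((preCx P).d (n + 1) n).app (op U) x = bd P n U x := by
  have h : (((preCx P).d (n + 1) n).app (op U)).hom = bd P n U := by
    apply FreeAbelianGroup.lift_ext
    intro s
    refine Eq.trans ?_ (bd_of n U s).symm
    show (((AlternatingFaceMapComplex.obj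
      (P ⋙ (Functor.whiskeringRight _ _ _).obj AddCommGrpCat.free.{u})).d (n + 1) n).app (op U)).hom
        (FreeAbelianGroup.of s) = _
    rw [AlternatingFaceMapComplex.obj_d_eq]
    simp only [NatTrans.app_sum]
    refine (DFunLike.congr_fun (map_sum AddCommGrpCat.homAddEquiv _ _) _).trans ?_
    rw [AddMonoidHom.finsetSum_apply]
    refine Finset.sum_congr rfl fun i _ => ?_
    show (((-1 : ℤ) ^ (i : ℕ)) • _ : Ch P n U) = _
    congr 1
  exact DFunLike.congr_fun h x

theorem preCx_map (n : ℕ) {U V : C} (h : V ⟶ U) (x : Ch P n U) :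
    ((preCx P).X n).map h.op x = rsC P n h x := rfl

theorem injective_app {F G : Cᵒᵖ ⥤ AddCommGrpCat.{u}} (φ : F ⟶ G) [Mono φ] (U : Cᵒᵖ) :
    Function.Injective (φ.app U) :=
  (AddCommGrpCat.mono_iff_injective _).1 inferInstance

theorem surjective_app {F G : Cᵒᵖ ⥤ AddCommGrpCat.{u}} (φ : F ⟶ G) [Epi φ] (U : Cᵒᵖ) :
    Function.Surjective (φ.app U) :=
  (AddCommGrpCat.epi_iff_surjective _).1 inferInstance

theorem comp_app_apply {F G H : Cᵒᵖ ⥤ AddCommGrpCat.{u}} {φ : F ⟶ G} {ψ : G ⟶ H} {χ : F ⟶ H}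
    (h : φ ≫ ψ = χ) (U : Cᵒᵖ) (x : F.obj U) : ψ.app U (φ.app U x) = χ.app U x :=
  ConcreteCategory.congr_hom (congrArg (fun t : F ⟶ H => t.app U) h) x

/-- a cycle which is locally a boundary has locally zero class -/
theorem homologyπ_eq_zero {n : ℕ} {U V : C} (h : V ⟶ U) (z : ((preCx P).cycles n).obj (op U))
    (y : Ch P (n + 1) V) (hy : bd P n V y = rsC P n h (((preCx P).iCycles n).app (op U) z)) :
    ((preCx P).homology n).map h.op (((preCx P).homologyπ n).app (op U) z) = 0 := by
  have e : ((preCx P).toCycles (n + 1) n).app (op V) y = ((preCx P).cycles n).map h.op z := by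
    apply injective_app ((preCx P).iCycles n)
    rw [comp_app_apply ((preCx P).toCycles_i (n + 1) n), preCx_d, hy]
    exact (ConcreteCategory.congr_hom (((preCx P).iCycles n).naturality h.op) z).symm
  refine (ConcreteCategory.congr_hom (((preCx P).homologyπ n).naturality h.op) z).symm.trans ?_
  show ((preCx P).homologyπ n).app (op V) (((preCx P).cycles n).map h.op z) = 0
  rw [← e, comp_app_apply ((preCx P).toCycles_comp_homologyπ (n + 1) n)]
  rfl

/-- homology is locally zero in positive degrees -/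
theorem locally_zero (hP : LocFill J P) (n : ℕ) {U : C} (w : ((preCx P).homology (n + 1)).obj (op U)) :
    ∃ S ∈ J U, ∀ ⦃V : C⦄ (h : V ⟶ U), S.arrows h → ((preCx P).homology (n + 1)).map h.op w = 0 := by
  obtain ⟨z, rfl⟩ := surjective_app ((preCx P).homologyπ (n + 1)) (op U) w
  have hz : bd P n U (((preCx P).iCycles (n + 1)).app (op U) z) = 0 := by
    rw [← preCx_d, comp_app_apply ((preCx P).iCycles_d (n + 1) n)]
    rfl
  obtain ⟨S, hS, hS'⟩ := exists_boundary hP _ hz
  refine ⟨S, hS, fun V h hh => ?_⟩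
  obtain ⟨y, hy⟩ := hS' h hh
  exact homologyπ_eq_zero h z y hy

/-- sheafification kills locally zero presheaves -/
theorem isZero_sheafify {H : Cᵒᵖ ⥤ AddCommGrpCat.{u}}
    (hH : ∀ (U : C) (w : H.obj (op U)), ∃ S ∈ J U, ∀ ⦃V : C⦄ (h : V ⟶ U), S.arrows h → H.map h.op w = 0) :
    IsZero ((presheafToSheaf J AddCommGrpCat.{u}).obj H) := by
  haveI : Presheaf.IsLocallyInjective J (0 : H ⟶ H) := ⟨fun {U} x y _ => by
    obtain ⟨S, hS, hS'⟩ := hH U.unop (x - y)
    refine J.superset_covering (fun V h hh => ?_) hS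
    exact sub_eq_zero.1 ((map_sub (H.map h.op).hom x y).symm.trans (hS' h hh))⟩
  haveI : Presheaf.IsLocallySurjective J (0 : H ⟶ H) := ⟨fun {U} x => by
    obtain ⟨S, hS, hS'⟩ := hH U x
    refine J.superset_covering (fun V h hh => ⟨0, ?_⟩) hS
    rw [map_zero, hS' h hh]⟩
  have := (J.W_iff _).1 (J.W_of_isLocallyBijective (0 : H ⟶ H))
  rw [IsZero.iff_id_eq_zero]
  exact (IsIso.hom_inv_id ((presheafToSheaf J AddCommGrpCat.{u}).map (0 : H ⟶ H))).symm.trans
    ((congrArg (· ≫ _) ((presheafToSheaf J AddCommGrpCat.{u}).map_zero H H)).trans zero_comp)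

variable (P J) in
/-- sheafified chain complex -/
abbrev shCx : ChainComplex (Sheaf J AddCommGrpCat.{u}) ℕ :=
  (alternatingFaceMapComplex _).obj
    ((P ⋙ (Functor.whiskeringRight _ _ _).obj AddCommGrpCat.free.{u}) ⋙ presheafToSheaf J AddCommGrpCat.{u})

variable (P J) in
/-- homology of the sheafified complex -/
def shCxHomologyIso (n : ℕ) :
    (shCx J P).homology n ≅ (presheafToSheaf J AddCommGrpCat.{u}).obj ((preCx P).homology n) :=
  ((HomologicalComplex.homologyFunctor _ _ n).mapIso (eqToIso (Functor.congr_obj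
      (map_alternatingFaceMapComplex (presheafToSheaf J AddCommGrpCat.{u}))
      (P ⋙ (Functor.whiskeringRight _ _ _).obj AddCommGrpCat.free.{u}))).symm) ≪≫
    ((preCx P).sc n).mapHomologyIso (presheafToSheaf J AddCommGrpCat.{u})

theorem isZero_homology_succ (hP : LocFill J P) (n : ℕ) : IsZero ((shCx J P).homology (n + 1)) :=
  (isZero_sheafify fun _ w => locally_zero hP n w).of_iso (shCxHomologyIso J P (n + 1))

variable (P) in
/-- the degree map -/
def degHom : (preCx P).X 0 ⟶ (Functor.const Cᵒᵖ).obj (AddCommGrpCat.of (ULift.{u} ℤ)) where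
  app U := AddCommGrpCat.ofHom ((AddEquiv.ulift.symm : ℤ ≃+ ULift.{u} ℤ).toAddMonoidHom.comp (deg (P := P) U.unop))
  naturality U V h := by
    ext : 1
    apply FreeAbelianGroup.lift_ext
    intro s
    simp [deg]

variable (P) in
theorem d_degHom : (preCx P).d 1 0 ≫ degHom P = 0 := by
  ext U : 2
  induction U using Opposite.rec with | op U => ?_
  ext : 1
  apply FreeAbelianGroup.lift_ext
  intro s
  show (degHom P).app (op U) (((preCx P).d 1 0).app (op U) (FreeAbelianGroup.of s : Ch P 1 U)) = 0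
  rw [preCx_d, bd_of]
  simp [degHom, deg, Fin.sum_univ_two]

variable (P) in
/-- the comparison of `H₀` with the constant presheaf -/
def augment : (preCx P).homology 0 ⟶ (Functor.const Cᵒᵖ).obj (AddCommGrpCat.of (ULift.{u} ℤ)) :=
  (preCx P).homologyι 0 ≫ (preCx P).descOpcycles (degHom P) 1 (by simp) (d_degHom P)

theorem augment_π {U : C} (z : ((preCx P).cycles 0).obj (op U)) :
    ((augment P).app (op U) (((preCx P).homologyπ 0).app (op U) z) : ULift.{u} ℤ) =
      ⟨deg U (((preCx P).iCycles 0).app (op U) z)⟩ := by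
  have e : (preCx P).homologyπ 0 ≫ augment P = (preCx P).iCycles 0 ≫ degHom P := by
    rw [augment, HomologicalComplex.homology_π_ι_assoc, HomologicalComplex.p_descOpcycles]
  rw [comp_app_apply e]
  rfl

theorem isLocallyInjective_augment (hP : LocFill J P) : Presheaf.IsLocallyInjective J (augment P) := by
  refine ⟨fun {U} x y hxy => ?_⟩
  induction U using Opposite.rec with | op U => ?_
  obtain ⟨z, hz⟩ := surjective_app ((preCx P).homologyπ 0) (op U) (x - y)
  have h0 : deg U (((preCx P).iCycles 0).app (op U) z) = 0 := by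
    have h := augment_π z
    rw [hz, map_sub, sub_eq_zero.2 hxy] at h
    exact (congrArg ULift.down h).symm
  obtain ⟨S, hS, hS'⟩ := exists_boundary_zero hP _ h0
  refine J.superset_covering (fun V h hh => ?_) hS
  obtain ⟨w, hw⟩ := hS' h hh
  refine sub_eq_zero.1 ((map_sub (((preCx P).homology 0).map h.op).hom x y).symm.trans ?_)
  show ((preCx P).homology 0).map h.op (x - y) = 0
  rw [← hz]
  exact homologyπ_eq_zero h z w hw

theorem isLocallySurjective_augment (hP : LocFill J P) : Presheaf.IsLocallySurjective J (augment P) := by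
  refine ⟨fun {U} (n : ULift.{u} ℤ) => ?_⟩
  obtain ⟨S, hS, hS'⟩ := exists_deg hP U n.down
  refine J.superset_covering (fun V h hh => ?_) hS
  obtain ⟨y, hy⟩ := hS' h hh
  let I := (preCx P).iCyclesIso 0 0 (by simp) ((preCx P).shape _ _ (by simp))
  refine ⟨((preCx P).homologyπ 0).app (op V) (I.inv.app (op V) y), ?_⟩
  refine (augment_π _).trans ?_
  rw [comp_app_apply (show I.inv ≫ (preCx P).iCycles 0 = _ from I.inv_hom_id)]
  exact ULift.ext _ _ hy

/-- `H₀` is the constant sheaf. -/
def homologyZeroIso (hP : LocFill J P) :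
    (shCx J P).homology 0 ≅ (constantSheaf J AddCommGrpCat.{u}).obj (AddCommGrpCat.of (ULift.{u} ℤ)) :=
  haveI := isLocallyInjective_augment hP
  haveI := isLocallySurjective_augment hP
  haveI := (J.W_iff _).1 (J.W_of_isLocallyBijective (augment P))
  shCxHomologyIso J P 0 ≪≫ asIso ((presheafToSheaf J AddCommGrpCat.{u}).map (augment P))

end Groth.Agent.HypAcyc
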