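import Groth.Agent.HypAcyc.Fill
import Groth.Agent.HypAcyc.Sheaf
import Mathlib

/-!
Čech complexes of hypercoverings: vanishing on injective sheaves, and degree zero.
-/

set_option autoImplicit false
set_option backward.isDefEq.respectTransparency false

universe u

open CategoryTheory CategoryTheory.Limits Opposite Simplicial AlgebraicTopology
open Groth.Agent.HypSite (el exists_el map_el res_el)

noncomputable section

namespace Groth.Agent.HypAcyc

variable {C : Type u} [SmallCategory C] {J : GrothendieckTopology C}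
  {K : SimplicialObject (FormalCoproduct.{u} C)} {P : Cᵒᵖ ⥤ AddCommGrpCat.{u}}

variable (K P) in
/-- cochains as functions -/
abbrev Co (n : ℕ) : Type u := ∀ i : (K.obj (op ⦋n⦌)).I, P.obj (op ((K.obj (op ⦋n⦌)).obj i))

variable (K P) in
/-- degree `n` of the Čech complex -/
def coEquiv (n : ℕ) : (Hyper.cechCxSite K P).X n ≃+ Co K P n :=
  { Concrete.productEquiv (fun i : (K.obj (op ⦋n⦌)).I => P.obj (op ((K.obj (op ⦋n⦌)).obj i))) with
    map_add' := fun x y => funext fun a =>
      (Concrete.productEquiv_apply_apply _ (x + y) a).trans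
        ((map_add _ _ _).trans (congr_arg₂ (· + ·)
          (Concrete.productEquiv_apply_apply _ x a).symm
          (Concrete.productEquiv_apply_apply _ y a).symm)) }

theorem coEquiv_apply (n : ℕ) (x : (Hyper.cechCxSite K P).X n) (i : (K.obj (op ⦋n⦌)).I) :
    coEquiv K P n x i = Pi.π (fun i : (K.obj (op ⦋n⦌)).I => P.obj (op ((K.obj (op ⦋n⦌)).obj i))) i x :=
  Concrete.productEquiv_apply_apply _ x i

/-- differential on functions -/
def cd {n : ℕ} (c : Co K P n) : Co K P (n + 1) := fun i =>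
  ∑ k : Fin (n + 2), (-1 : ℤ) ^ (k : ℕ) • P.map ((K.δ k).φ i).op (c ((K.δ k).f i))

theorem coEquiv_d (n : ℕ) (x : (Hyper.cechCxSite K P).X n) :
    coEquiv K P (n + 1) ((Hyper.cechCxSite K P).d n (n + 1) x) = cd (coEquiv K P n x) := by
  funext i
  let F := fun i : (K.obj (op ⦋n⦌)).I => P.obj (op ((K.obj (op ⦋n⦌)).obj i))
  let F' := fun i : (K.obj (op ⦋n + 1⦌)).I => P.obj (op ((K.obj (op ⦋n + 1⦌)).obj i))
  rw [coEquiv_apply]
  have hd : (Hyper.cechCxSite K P).d n (n + 1) ≫ Pi.π F' i =
      ∑ k : Fin (n + 2), (-1 : ℤ) ^ (k : ℕ) • (Pi.π F ((K.δ k).f i) ≫ P.map ((K.δ k).φ i).op) := by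
    refine (congr_arg (· ≫ Pi.π F' i) (CochainComplex.of_d
      (fun m => ((FormalCoproduct.cosimplicialObjectFunctor K).obj P).obj ⦋m⦌)
      (AlternatingCofaceMapComplex.objD ((FormalCoproduct.cosimplicialObjectFunctor K).obj P)) n)).trans ?_
    refine (Preadditive.sum_comp _ _ _).trans ?_
    refine Finset.sum_congr rfl fun k _ => ?_
    refine (Preadditive.zsmul_comp _ _ _).trans ?_
    refine congr_arg _ ?_
    exact Pi.lift_π _ _
  refine (ConcreteCategory.congr_hom hd x).trans ?_
  simp only [cd, coEquiv_apply]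
  let ev : (((Hyper.cechCxSite K P).X n) ⟶ F' i) →+ F' i :=
    AddMonoidHom.mk' (fun f => f x) (fun _ _ => rfl)
  refine (map_sum ev _ _).trans (Finset.sum_congr rfl fun k _ => ?_)
  exact (map_zsmul ev _ _).trans rfl

/-- cochains on one formal coproduct, evaluated on sections -/
def tau {L : FormalCoproduct.{u} C} (c : ∀ i : L.I, P.obj (op (L.obj i))) :
    FormalCoproduct.yoneda.obj L ⟶ P ⋙ CategoryTheory.forget AddCommGrpCat.{u} :=
  Sigma.desc fun i => yonedaEquiv.symm (c i : (P ⋙ CategoryTheory.forget AddCommGrpCat.{u}).obj (op (L.obj i)))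

theorem tau_el {L : FormalCoproduct.{u} C} (c : ∀ i : L.I, P.obj (op (L.obj i))) {U : C}
    (χ : (FormalCoproduct.incl C).obj U ⟶ L) :
    (tau c).app (op U) (el χ) = P.map (χ.φ PUnit.unit).op (c (χ.f PUnit.unit)) := by
  show (Sigma.ι (fun i => CategoryTheory.yoneda.obj (L.obj i)) (χ.f PUnit.unit) ≫ tau c).app (op U) (χ.φ PUnit.unit) = _
  rw [tau, Sigma.ι_desc]
  rfl

/-- a cochain as a morphism out of the free presheaf -/
def psi {n : ℕ} (c : Co K P n) : (preCx (pre K)).X n ⟶ P where
  app U := AddCommGrpCat.ofHom (FreeAbelianGroup.lift fun x : Sx (pre K) n U.unop => (tau c).app U x)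
  naturality U V h := by
    ext : 1
    apply FreeAbelianGroup.lift_ext
    intro x
    refine (FreeAbelianGroup.lift_apply_of _ _).trans ?_
    show (tau c).app V ((FormalCoproduct.yoneda.obj (K.obj (op ⦋n⦌))).map h x) =
      P.map h (FreeAbelianGroup.lift _ (FreeAbelianGroup.of x))
    rw [FreeAbelianGroup.lift_apply_of]
    exact ConcreteCategory.congr_hom ((tau c).naturality h) x

theorem psi_of {n : ℕ} (c : Co K P n) {U : C} (x : Sx (pre K) n U) :
    (psi c).app (op U) (FreeAbelianGroup.of x : Ch (pre K) n U) = (tau c).app (op U) x :=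
  FreeAbelianGroup.lift_apply_of _ _

theorem d_psi {n : ℕ} (c : Co K P n) : (preCx (pre K)).d (n + 1) n ≫ psi c = psi (cd c) := by
  ext U : 2
  induction U using Opposite.rec with | op U => ?_
  ext : 1
  apply FreeAbelianGroup.lift_ext
  intro (x : Sx (pre K) (n + 1) U)
  refine Eq.trans ?_ (psi_of (cd c) x).symm
  show (psi c).app (op U) (((preCx (pre K)).d (n + 1) n).app (op U) (FreeAbelianGroup.of x : Ch (pre K) (n + 1) U)) = _
  rw [preCx_d, bd_of]
  obtain ⟨χ, rfl⟩ := exists_el x
  refine (map_sum ((psi c).app (op U)).hom _ _).trans ?_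
  rw [tau_el, cd]
  refine Eq.trans ?_ (map_sum (P.map (χ.φ PUnit.unit).op).hom _ _).symm
  refine Finset.sum_congr rfl fun k _ => ?_
  refine (map_zsmul ((psi c).app (op U)).hom _ _).trans ((congrArg _ ?_).trans
    (map_zsmul (P.map (χ.φ PUnit.unit).op).hom _ _).symm)
  show (psi c).app (op U) (FreeAbelianGroup.of (d (pre K) k (el χ)) : Ch (pre K) n U) = _
  rw [psi_of, d_el, tau_el]
  exact ConcreteCategory.congr_hom (P.map_comp ((K.δ k).φ (χ.f PUnit.unit)).op (χ.φ PUnit.unit).op) _

/-- the cochain of a morphism -/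
def phi {n : ℕ} (φ : (preCx (pre K)).X n ⟶ P) : Co K P n := fun i =>
  φ.app (op ((K.obj (op ⦋n⦌)).obj i))
    (FreeAbelianGroup.of (el (FormalCoproduct.Hom.fromIncl i (𝟙 _))) : Ch (pre K) n _)

theorem phi_psi {n : ℕ} (c : Co K P n) : phi (psi c) = c := by
  funext i
  rw [phi, psi_of, tau_el]
  exact ConcreteCategory.congr_hom (P.map_id _) _

theorem psi_phi {n : ℕ} (φ : (preCx (pre K)).X n ⟶ P) : psi (phi φ) = φ := by
  ext U : 2
  induction U using Opposite.rec with | op U => ?_
  ext : 1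
  apply FreeAbelianGroup.lift_ext
  intro (x : Sx (pre K) n U)
  refine (psi_of _ x).trans ?_
  obtain ⟨χ, rfl⟩ := exists_el x
  rw [tau_el]
  refine (ConcreteCategory.congr_hom (φ.naturality (χ.φ PUnit.unit).op) _).symm.trans ?_
  show φ.app (op U) (((preCx (pre K)).X n).map (χ.φ PUnit.unit).op _) = _
  rw [preCx_map, rsC, FreeAbelianGroup.map_of_apply, rs]
  erw [res_el]
  exact congrArg (fun t => φ.app (op U) (FreeAbelianGroup.of (el t) : Ch (pre K) n U))
    (HypSite.hom_ext rfl ((Category.comp_id _).trans (Category.comp_id _)))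

theorem cocycle_psi {n : ℕ} {c : Co K P (n + 1)} (hc : cd c = 0) :
    (preCx (pre K)).d (n + 2) (n + 1) ≫ psi c = 0 := by
  rw [d_psi, hc]
  ext U : 2
  ext : 1
  apply FreeAbelianGroup.lift_ext
  intro x
  refine (FreeAbelianGroup.lift_apply_of _ _).trans ?_
  obtain ⟨χ, rfl⟩ := exists_el x
  exact (tau_el _ χ).trans (map_zero _)

/-- Čech cochains on an injective sheaf are exact in positive degrees. -/
theorem exists_cd_eq (hP : LocFill J (pre K)) (I : Sheaf J AddCommGrpCat.{u}) [Injective I] {n : ℕ}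
    (c : Co K I.obj (n + 1)) (hc : cd c = 0) : ∃ b : Co K I.obj n, cd b = c := by
  let adj := sheafificationAdjunction J AddCommGrpCat.{u}
  let T := ((preCx (pre K)).sc' (n + 2) (n + 1) n).map (presheafToSheaf J AddCommGrpCat.{u})
  have hT : T.Exact := (ShortComplex.exact_iff_isZero_homology _).2
    ((isZero_sheafify fun _ w => locally_zero hP n w).of_iso
      (((preCx (pre K)).sc' (n + 2) (n + 1) n).mapHomologyIso (presheafToSheaf J AddCommGrpCat.{u}) ≪≫
        (presheafToSheaf J AddCommGrpCat.{u}).mapIso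
          ((preCx (pre K)).homologyIsoSc' (n + 2) (n + 1) n (by simp) (by simp)).symm))
  have hk : T.f ≫ (adj.homEquiv _ I).symm (psi c) = 0 := by
    show (presheafToSheaf J AddCommGrpCat.{u}).map ((preCx (pre K)).d (n + 2) (n + 1)) ≫ _ = 0
    refine ((Adjunction.homEquiv_naturality_left_symm adj _ _).symm.trans
      (congrArg (adj.homEquiv _ I).symm (cocycle_psi hc))).trans ?_
    rw [Adjunction.homEquiv_counit, Functor.map_zero, zero_comp]
  have h := congrArg (adj.homEquiv _ I) (hT.comp_descToInjective _ hk)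
  rw [Equiv.apply_symm_apply] at h
  have h' : (preCx (pre K)).d (n + 1) n ≫ adj.homEquiv _ I (hT.descToInjective _ hk) = psi c :=
    (Adjunction.homEquiv_naturality_left _ _ _).symm.trans h
  refine ⟨phi (adj.homEquiv _ I (hT.descToInjective _ hk)), ?_⟩
  rw [← phi_psi (cd _), ← d_psi, psi_phi, h', phi_psi]

theorem isZero_homology_of_exists (n : ℕ) (h : ∀ c : Co K P (n + 1), cd c = 0 → ∃ b : Co K P n, cd b = c) :
    IsZero ((Hyper.cechCxSite K P).homology (n + 1)) := by
  rw [← HomologicalComplex.exactAt_iff_isZero_homology,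
    HomologicalComplex.exactAt_iff' (Hyper.cechCxSite K P) n (n + 1) (n + 1 + 1) (by simp) (by simp),
    ShortComplex.ab_exact_iff]
  intro x hx
  obtain ⟨b, hb⟩ := h (coEquiv K P (n + 1) x)
    (by rw [← coEquiv_d, show (Hyper.cechCxSite K P).d (n + 1) (n + 1 + 1) x = 0 from hx, map_zero])
  refine ⟨(coEquiv K P n).symm b, (coEquiv K P (n + 1)).injective ?_⟩
  exact (coEquiv_d n _).trans (by rw [AddEquiv.apply_symm_apply, hb])

theorem cd_cd {n : ℕ} (c : Co K P n) : cd (cd c) = 0 := by
  obtain ⟨x, rfl⟩ := (coEquiv K P n).surjective c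
  rw [← coEquiv_d, ← coEquiv_d, ← ConcreteCategory.comp_apply, HomologicalComplex.d_comp_d]
  exact map_zero _

theorem cd_sub {n : ℕ} (b c : Co K P n) : cd (b - c) = cd b - cd c := by
  funext i
  simp [cd, smul_sub, Finset.sum_sub_distrib]

theorem cd_map {Q : Cᵒᵖ ⥤ AddCommGrpCat.{u}} (η : P ⟶ Q) {n : ℕ} (c : Co K P n) :
    cd (fun i => η.app _ (c i)) = fun i => η.app _ (cd c i) := by
  funext i
  refine Eq.trans ?_ (map_sum (η.app _).hom _ _).symm
  refine Finset.sum_congr rfl fun k _ => ?_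
  exact (congrArg _ (ConcreteCategory.congr_hom (η.naturality ((K.δ k).φ i).op) _).symm).trans
    (map_zsmul (η.app _).hom _ _).symm

theorem isZero_homology_injective (hP : LocFill J (pre K)) (I : Sheaf J AddCommGrpCat.{u}) [Injective I] (n : ℕ) :
    IsZero ((Hyper.cechCxSite K I.obj).homology (n + 1)) := by
  rw [← HomologicalComplex.exactAt_iff_isZero_homology,
    HomologicalComplex.exactAt_iff' (Hyper.cechCxSite K I.obj) n (n + 1) (n + 1 + 1) (by simp) (by simp),
    ShortComplex.ab_exact_iff]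
  intro x hx
  obtain ⟨b, hb⟩ := exists_cd_eq hP I (coEquiv K I.obj (n + 1) x)
    (by rw [← coEquiv_d, show (Hyper.cechCxSite K I.obj).d (n + 1) (n + 1 + 1) x = 0 from hx, map_zero])
  refine ⟨(coEquiv K I.obj n).symm b, (coEquiv K I.obj (n + 1)).injective ?_⟩
  exact (coEquiv_d n _).trans (by rw [AddEquiv.apply_symm_apply, hb])

section Zero

variable (F : Sheaf J AddCommGrpCat.{u})

theorem sheaf_isSheafFor {U : C} (S : Sieve U) (hS : S ∈ J U) :
    Presieve.IsSheafFor (F.obj ⋙ CategoryTheory.forget AddCommGrpCat.{u}) S.arrows :=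
  (CategoryTheory.isSheaf_iff_isSheaf_of_type J _).1
    ((sheafCompose J (CategoryTheory.forget AddCommGrpCat.{u})).obj F).property S hS

theorem sheaf_ext {U : C} {S : Sieve U} (hS : S ∈ J U) {a b : F.obj.obj (op U)}
    (h : ∀ ⦃V : C⦄ (f : V ⟶ U), S.arrows f → F.obj.map f.op a = F.obj.map f.op b) : a = b :=
  (sheaf_isSheafFor F S hS).isSeparatedFor.ext fun V f hf => h f hf

variable {F}

theorem tau_eq (hP : LocFill J (pre K)) {c : Co K F.obj 0} (hc : cd c = 0) {U : C} (x y : Sx (pre K) 0 U) :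
    (tau c).app (op U) x = (tau c).app (op U) y := by
  obtain ⟨S, hS, hS'⟩ := hP.fill₀ U x y
  refine sheaf_ext F hS fun V f hf => ?_
  obtain ⟨z, h₀, h₁⟩ := hS' f hf
  refine (ConcreteCategory.congr_hom ((tau c).naturality f.op) x).symm.trans
    (Eq.trans ?_ (ConcreteCategory.congr_hom ((tau c).naturality f.op) y))
  show (tau c).app (op V) (rs (pre K) f x) = (tau c).app (op V) (rs (pre K) f y)
  rw [← h₀, ← h₁]
  obtain ⟨χ, rfl⟩ := exists_el z
  have hz : F.obj.map (χ.φ PUnit.unit).op ((cd c) (χ.f PUnit.unit)) = 0 := by rw [hc]; exact map_zero _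
  rw [cd, Fin.sum_univ_two] at hz
  simp only [Fin.val_zero, pow_zero, one_smul, Fin.val_one, pow_one, neg_one_smul, ← sub_eq_add_neg] at hz
  rw [map_sub, sub_eq_zero] at hz
  rw [d_el, d_el, tau_el, tau_el]
  exact (ConcreteCategory.congr_hom (F.obj.map_comp ((K.δ 0).φ _).op (χ.φ PUnit.unit).op) _).trans
    (hz.trans (ConcreteCategory.congr_hom (F.obj.map_comp ((K.δ 1).φ _).op (χ.φ PUnit.unit).op) _).symm)

theorem exists_global (hP : LocFill J (pre K)) {c : Co K F.obj 0} (hc : cd c = 0) :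
    ∃ s : ∀ U : C, F.obj.obj (op U), (∀ ⦃U V : C⦄ (f : V ⟶ U), F.obj.map f.op (s U) = s V) ∧
      ∀ i, s ((K.obj (op ⦋0⦌)).obj i) = c i := by
  let T : ∀ U : C, Sieve U := fun U =>
    ⟨fun V _ => Nonempty (Sx (pre K) 0 V), fun {V W f} h g => h.map (rs (pre K) g)⟩
  have hT : ∀ U, T U ∈ J U := fun U => by
    obtain ⟨S, hS, hS'⟩ := hP.nonempty U
    exact J.superset_covering hS' hS
  let fam : ∀ U, Presieve.FamilyOfElements (F.obj ⋙ CategoryTheory.forget AddCommGrpCat.{u}) (T U).arrows :=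
    fun U V f hf => (tau c).app (op V) (Classical.choice hf)
  have hfam : ∀ U, (fam U).Compatible := fun U V₁ V₂ W g₁ g₂ f₁ f₂ h₁ h₂ _ =>
    (ConcreteCategory.congr_hom ((tau c).naturality g₁.op) _).symm.trans
      ((tau_eq hP hc _ _).trans (ConcreteCategory.congr_hom ((tau c).naturality g₂.op) _))
  let s : ∀ U : C, F.obj.obj (op U) := fun U =>
    (sheaf_isSheafFor F (T U) (hT U)).amalgamate (fam U) (hfam U)
  have hs : ∀ ⦃U V : C⦄ (f : V ⟶ U) (x : Sx (pre K) 0 V), F.obj.map f.op (s U) = (tau c).app (op V) x :=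
    fun U V f x => ((sheaf_isSheafFor F (T U) (hT U)).valid_glue (hfam U) f ⟨x⟩).trans (tau_eq hP hc _ _)
  refine ⟨s, fun U V f => sheaf_ext F (hT V) fun W g hg => ?_, fun i => ?_⟩
  · obtain ⟨x⟩ := hg
    rw [← ConcreteCategory.comp_apply, ← F.obj.map_comp, ← op_comp, hs _ x, hs g x]
  · have h := hs (𝟙 _) (el (FormalCoproduct.Hom.fromIncl i (𝟙 _)))
    rw [tau_el] at h
    refine Eq.trans ?_ (h.trans (ConcreteCategory.congr_hom (F.obj.map_id _) _))
    exact (ConcreteCategory.congr_hom (F.obj.map_id _) _).symm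

variable (K F) in
/-- restriction of global sections to `K₀` -/
def res₀ : limit F.obj ⟶ (Hyper.cechCxSite K F.obj).X 0 :=
  Pi.lift fun i => limit.π F.obj (op ((K.obj (op ⦋0⦌)).obj i))

theorem coEquiv_res₀ (s : ↑(limit F.obj)) (i : (K.obj (op ⦋0⦌)).I) :
    coEquiv K F.obj 0 (res₀ K F s) i = limit.π F.obj _ s :=
  (coEquiv_apply 0 _ i).trans (ConcreteCategory.congr_hom (Pi.lift_π _ i) s)

theorem res₀_d : res₀ K F ≫ (Hyper.cechCxSite K F.obj).d 0 1 = 0 := by
  ext s
  apply (coEquiv K F.obj 1).injective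
  refine (coEquiv_d 0 (res₀ K F s)).trans (Eq.trans ?_ (map_zero _).symm)
  funext i
  rw [cd, Fin.sum_univ_two, coEquiv_res₀, coEquiv_res₀]
  erw [← ConcreteCategory.comp_apply, ← ConcreteCategory.comp_apply, limit.w, limit.w]
  simp

/-- `H⁰` of the Čech complex of a sheaf -/
def homologyZeroIsoLimit (hP : LocFill J (pre K)) (F : Sheaf J AddCommGrpCat.{u}) :
    (Hyper.cechCxSite K F.obj).homology 0 ≅ limit F.obj := by
  let l := (Hyper.cechCxSite K F.obj).liftCycles (res₀ K F) 1 (by simp) res₀_d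
  have hl : ∀ s, (Hyper.cechCxSite K F.obj).iCycles 0 (l s) = res₀ K F s := fun s =>
    ConcreteCategory.congr_hom ((Hyper.cechCxSite K F.obj).liftCycles_i (res₀ K F) 1 (by simp) res₀_d) s
  have hinj : Function.Injective l := by
    rw [injective_iff_map_eq_zero]
    intro s hs
    refine Concrete.limit_ext _ _ _ fun V => ?_
    induction V using Opposite.rec with | op V => ?_
    obtain ⟨S, hS, hS'⟩ := hP.nonempty V
    refine (sheaf_ext F hS fun W f hf => ?_).trans (map_zero (limit.π F.obj (op V)).hom).symm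
    obtain ⟨x⟩ := hS' f hf
    obtain ⟨χ, -⟩ := exists_el x
    have h := coEquiv_res₀ s (χ.f PUnit.unit)
    rw [← hl, hs, map_zero, map_zero, Pi.zero_apply] at h
    rw [map_zero, ← ConcreteCategory.comp_apply, limit.w]
    refine (ConcreteCategory.congr_hom (limit.w F.obj (χ.φ PUnit.unit).op) s).symm.trans ?_
    rw [ConcreteCategory.comp_apply, ← h, map_zero]
  have hsurj : Function.Surjective l := by
    intro z
    have hz : cd (coEquiv K F.obj 0 ((Hyper.cechCxSite K F.obj).iCycles 0 z)) = 0 := by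
      rw [← coEquiv_d, ← ConcreteCategory.comp_apply, HomologicalComplex.iCycles_d]
      exact map_zero _
    obtain ⟨s, hs, hs'⟩ := exists_global hP hz
    let cn : Limits.Cone F.obj :=
      { pt := AddCommGrpCat.of (ULift.{u} ℤ)
        π :=
          { app := fun V => AddCommGrpCat.ofHom
              ((zmultiplesHom (F.obj.obj V) (s V.unop)).comp AddEquiv.ulift.toAddMonoidHom)
            naturality := fun U V f => by
              ext n
              show n.down • s V.unop = F.obj.map f (n.down • s U.unop)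
              rw [map_zsmul]
              exact congrArg _ (hs f.unop).symm } }
    refine ⟨limit.lift F.obj cn ⟨1⟩, ?_⟩
    apply (AddCommGrpCat.mono_iff_injective ((Hyper.cechCxSite K F.obj).iCycles 0)).1 inferInstance
    apply (coEquiv K F.obj 0).injective
    funext i
    rw [hl, coEquiv_res₀, ← hs' i, ← ConcreteCategory.comp_apply, limit.lift_π]
    exact one_smul ℤ _
  exact (CochainComplex.isoHomologyπ₀ (Hyper.cechCxSite K F.obj)).symm ≪≫
    (AddEquiv.toAddCommGrpIso (AddEquiv.ofBijective l.hom ⟨hinj, hsurj⟩)).symm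

end Zero

end Groth.Agent.HypAcyc
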