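import Groth.Agent.HypAcyc.Cone

/-!
Cycles of the free simplicial abelian presheaf are locally boundaries.
-/

set_option autoImplicit false
set_option backward.isDefEq.respectTransparency false

universe u

open CategoryTheory CategoryTheory.Limits Opposite Simplicial

noncomputable section

namespace Groth.Agent.HypAcyc

variable {C : Type u} [SmallCategory C] {J : GrothendieckTopology C}
  {P : SimplicialObject (Cᵒᵖ ⥤ Type u)}

variable (P) in
/-- chains -/
abbrev Ch (m : ℕ) (U : C) : Type u := FreeAbelianGroup (Sx P m U)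

variable (P) in
/-- boundary -/
def bd (m : ℕ) (U : C) : Ch P (m + 1) U →+ Ch P m U :=
  ∑ i : Fin (m + 2), (-1 : ℤ) ^ (i : ℕ) • FreeAbelianGroup.map (d P i)

variable (P) in
/-- restriction of chains -/
def rsC (m : ℕ) {U V : C} (h : V ⟶ U) : Ch P m U →+ Ch P m V := FreeAbelianGroup.map (rs P h)

theorem bd_of (m : ℕ) (U : C) (s : Sx P (m + 1) U) :
    bd P m U (FreeAbelianGroup.of s) = ∑ i : Fin (m + 2), (-1 : ℤ) ^ (i : ℕ) • FreeAbelianGroup.of (d P i s) := by
  simp [bd, AddMonoidHom.finsetSum_apply]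

/-- augmentation -/
def deg (U : C) : Ch P 0 U →+ ℤ := FreeAbelianGroup.lift fun _ => 1

theorem exists_support {m : ℕ} {U : C} (x : Ch P m U) :
    ∃ T : Finset (Sx P m U), x ∈ AddSubgroup.closure (FreeAbelianGroup.of '' (T : Set (Sx P m U))) := by
  classical
  induction x using FreeAbelianGroup.induction_on with
  | zero => exact ⟨∅, zero_mem _⟩
  | of s => exact ⟨{s}, AddSubgroup.subset_closure ⟨s, by simp, rfl⟩⟩
  | neg s hs => obtain ⟨T, hT⟩ := hs; exact ⟨T, neg_mem hT⟩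
  | add a b ha hb =>
    obtain ⟨S, hS⟩ := ha
    obtain ⟨T, hT⟩ := hb
    exact ⟨S ∪ T, add_mem (AddSubgroup.closure_mono (Set.image_mono (by simp)) hS)
      (AddSubgroup.closure_mono (Set.image_mono (by simp)) hT)⟩

/-- The cone is a chain homotopy. -/
theorem bd_cone {U V : C} {b : Sx P 0 U} {m : ℕ} {h : V ⟶ U} {T : Set (Sx P (m + 1) U)}
    {c : Sx P (m + 1) U → Sx P (m + 2) V} (hc : Cone P b (m + 1) h T c) :
    ∃ c' : Sx P m U → Sx P (m + 1) V, ∀ x ∈ AddSubgroup.closure (FreeAbelianGroup.of '' T),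
      bd P (m + 1) V (FreeAbelianGroup.map c x) =
        rsC P (m + 1) h x - FreeAbelianGroup.map c' (bd P m U x) := by
  obtain ⟨c', -, hc'⟩ := hc
  refine ⟨c', fun x hx => ?_⟩
  refine AddMonoidHom.eqOn_closure (f := (bd P (m + 1) V).comp (FreeAbelianGroup.map c))
    (g := rsC P (m + 1) h - (FreeAbelianGroup.map c').comp (bd P m U)) ?_ hx
  rintro _ ⟨s, hs, rfl⟩
  simp only [AddMonoidHom.comp_apply, AddMonoidHom.sub_apply, FreeAbelianGroup.map_of_apply, bd_of, rsC, map_sum,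
    map_zsmul]
  rw [Fin.sum_univ_succ (n := m + 2)]
  simp only [Fin.val_zero, pow_zero, one_smul, (hc' s hs).1, (hc' s hs).2, Fin.val_succ, pow_succ, mul_neg, mul_one,
    neg_smul, Finset.sum_neg_distrib, sub_eq_add_neg]

/-- Positive degree cycles are locally boundaries. -/
theorem exists_boundary (hP : LocFill J P) {m : ℕ} {U : C} (x : Ch P (m + 1) U) (hx : bd P m U x = 0) :
    ∃ S ∈ J U, ∀ ⦃V : C⦄ (h : V ⟶ U), S.arrows h → ∃ y, bd P (m + 1) V y = rsC P (m + 1) h x := by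
  obtain ⟨T, hT⟩ := exists_support x
  by_cases hb : Nonempty (Sx P 0 U)
  · obtain ⟨b⟩ := hb
    obtain ⟨S, hS, hS'⟩ := exists_cone hP b (m + 1) T
    refine ⟨S, hS, fun V h hh => ?_⟩
    obtain ⟨c, hc⟩ := hS' h hh
    obtain ⟨c', hc'⟩ := bd_cone hc
    exact ⟨FreeAbelianGroup.map c x, by rw [hc' x hT, hx, map_zero, sub_zero]⟩
  · refine ⟨⊤, J.top_mem U, fun V h _ => ⟨0, ?_⟩⟩
    haveI : IsEmpty (Sx P (m + 1) U) := ⟨fun s => hb ⟨(P.map (SimplexCategory.const ⦋0⦌ ⦋m + 1⦌ 0).op).app (op U) s⟩⟩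
    rw [Subsingleton.elim x 0, map_zero, map_zero]

/-- Degree zero chains of degree zero are locally boundaries. -/
theorem exists_boundary_zero (hP : LocFill J P) {U : C} (x : Ch P 0 U) (hx : deg U x = 0) :
    ∃ S ∈ J U, ∀ ⦃V : C⦄ (h : V ⟶ U), S.arrows h → ∃ y, bd P 0 V y = rsC P 0 h x := by
  obtain ⟨T, hT⟩ := exists_support x
  by_cases hb : Nonempty (Sx P 0 U)
  · obtain ⟨b⟩ := hb
    obtain ⟨S, hS, hS'⟩ := exists_cone hP b 0 T
    refine ⟨S, hS, fun V h hh => ?_⟩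
    obtain ⟨c, hc⟩ := hS' h hh
    refine ⟨FreeAbelianGroup.map c x, ?_⟩
    have key := AddMonoidHom.eqOn_closure (f := (bd P 0 V).comp (FreeAbelianGroup.map c))
      (g := rsC P 0 h - ((zmultiplesHom (Ch P 0 V)) (FreeAbelianGroup.of (rs P h b))).comp (deg U)) ?_ hT
    · simpa [hx] using key
    rintro _ ⟨s, hs, rfl⟩
    simp [bd_of, rsC, deg, Fin.sum_univ_two, (hc s hs).1, (hc s hs).2, sub_eq_add_neg]
  · refine ⟨⊤, J.top_mem U, fun V h _ => ⟨0, ?_⟩⟩
    haveI : IsEmpty (Sx P 0 U) := not_nonempty_iff.mp hb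
    rw [Subsingleton.elim x 0, map_zero, map_zero]

/-- Degree is locally surjective. -/
theorem exists_deg (hP : LocFill J P) (U : C) (n : ℤ) :
    ∃ S ∈ J U, ∀ ⦃V : C⦄ (h : V ⟶ U), S.arrows h → ∃ y : Ch P 0 V, deg V y = n := by
  obtain ⟨S, hS, hS'⟩ := hP.nonempty U
  refine ⟨S, hS, fun V h hh => ?_⟩
  obtain ⟨b⟩ := hS' h hh
  exact ⟨n • FreeAbelianGroup.of b, by simp [deg]⟩

end Groth.Agent.HypAcyc
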