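import Mathlib

/-!
Simplicial presheaves of sets with local fillers of boundaries: local cones and local vanishing of cycles
of the free simplicial presheaf of abelian groups.
-/

set_option autoImplicit false
set_option backward.isDefEq.respectTransparency false

universe u

open CategoryTheory CategoryTheory.Limits Opposite Simplicial

noncomputable section

namespace Groth.Agent.HypAcyc

variable {C : Type u} [SmallCategory C] (J : GrothendieckTopology C)
  (P : SimplicialObject (Cᵒᵖ ⥤ Type u))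

/-- simplices over an object -/
abbrev Sx (m : ℕ) (U : C) : Type u := (P.obj (op ⦋m⦌)).obj (op U)

/-- faces -/
def d {m : ℕ} {U : C} (i : Fin (m + 2)) (x : Sx P (m + 1) U) : Sx P m U := (P.δ i).app (op U) x

/-- restriction -/
def rs {m : ℕ} {U V : C} (h : V ⟶ U) (x : Sx P m U) : Sx P m V := (P.obj (op ⦋m⦌)).map h.op x

theorem d_rs {m : ℕ} {U V : C} (h : V ⟶ U) (i : Fin (m + 2)) (x : Sx P (m + 1) U) :
    d P i (rs P h x) = rs P h (d P i x) :=
  ConcreteCategory.congr_hom ((P.δ i).naturality h.op) x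

theorem rs_rs {m : ℕ} {U V W : C} (g : W ⟶ V) (h : V ⟶ U) (x : Sx P m U) :
    rs P g (rs P h x) = rs P (g ≫ h) x := by
  simp [rs]

theorem rs_id {m : ℕ} {U : C} (x : Sx P m U) : rs P (𝟙 U) x = x := by simp [rs]

theorem d_d {m : ℕ} {U : C} {i j : Fin (m + 2)} (h : i ≤ j) (x : Sx P (m + 2) U) :
    d P i (d P j.succ x) = d P j (d P i.castSucc x) :=
  ConcreteCategory.congr_hom (congrArg (fun t : P.obj (op ⦋m + 2⦌) ⟶ P.obj (op ⦋m⦌) => t.app (op U)) (P.δ_comp_δ h)) x

/-- Local fillers of boundaries. -/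
structure LocFill : Prop where
  nonempty : ∀ U : C, ∃ S ∈ J U, ∀ ⦃V : C⦄ (h : V ⟶ U), S.arrows h → Nonempty (Sx P 0 V)
  fill₀ : ∀ (U : C) (a b : Sx P 0 U), ∃ S ∈ J U, ∀ ⦃V : C⦄ (h : V ⟶ U), S.arrows h →
    ∃ z : Sx P 1 V, d P 0 z = rs P h a ∧ d P 1 z = rs P h b
  fill : ∀ (m : ℕ) (U : C) (y : Fin (m + 3) → Sx P (m + 1) U),
    (∀ i j : Fin (m + 2), i ≤ j → d P i (y j.succ) = d P j (y i.castSucc)) →
    ∃ S ∈ J U, ∀ ⦃V : C⦄ (h : V ⟶ U), S.arrows h →
      ∃ z : Sx P (m + 2) V, ∀ i, d P i z = rs P h (y i)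

/-- Cones over finite sets of simplices, with values on a refinement. -/
def Cone {U : C} (b : Sx P 0 U) (m : ℕ) {V : C} (h : V ⟶ U) (T : Set (Sx P m U))
    (c : Sx P m U → Sx P (m + 1) V) : Prop :=
  match m with
  | 0 => ∀ s ∈ T, d P 0 (c s) = rs P h s ∧ d P 1 (c s) = rs P h b
  | m + 1 => ∃ c' : Sx P m U → Sx P (m + 1) V,
      Cone b m h (⋃ i : Fin (m + 2), d P i '' T) c' ∧
      ∀ s ∈ T, d P 0 (c s) = rs P h s ∧ ∀ i : Fin (m + 2), d P i.succ (c s) = c' (d P i s)

theorem Cone.head {U : C} {b : Sx P 0 U} {m : ℕ} {V : C} {h : V ⟶ U} {T : Set (Sx P m U)}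
    {c : Sx P m U → Sx P (m + 1) V} (hc : Cone P b m h T c) : ∀ s ∈ T, d P 0 (c s) = rs P h s := by
  cases m with
  | zero => exact fun s hs => (hc s hs).1
  | succ m => exact fun s hs => (hc.choose_spec.2 s hs).1

theorem Cone.restrict {U : C} {b : Sx P 0 U} {m : ℕ} {V W : C} {h : V ⟶ U} (g : W ⟶ V)
    {T : Set (Sx P m U)} {c : Sx P m U → Sx P (m + 1) V} (hc : Cone P b m h T c) :
    Cone P b m (g ≫ h) T (fun s => rs P g (c s)) := by
  induction m with
  | zero =>
    intro s hs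
    rw [d_rs, d_rs, (hc s hs).1, (hc s hs).2, rs_rs, rs_rs]
    exact ⟨rfl, rfl⟩
  | succ m ih =>
    obtain ⟨c', hc', hc''⟩ := hc
    refine ⟨fun s => rs P g (c' s), ih hc', fun s hs => ⟨by rw [d_rs, (hc'' s hs).1, rs_rs], fun i => ?_⟩⟩
    rw [d_rs, (hc'' s hs).2 i]

variable {J P}

theorem exists_common {U : C} {κ : Type*} (F : Finset κ) (Q : κ → ∀ ⦃V : C⦄, (V ⟶ U) → Prop)
    (hQ : ∀ a ∈ F, ∃ S ∈ J U, ∀ ⦃V : C⦄ (h : V ⟶ U), S.arrows h → Q a h) :
    ∃ S ∈ J U, ∀ ⦃V : C⦄ (h : V ⟶ U), S.arrows h → ∀ a ∈ F, Q a h := by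
  classical
  induction F using Finset.induction_on with
  | empty => exact ⟨⊤, J.top_mem U, fun _ _ _ a ha => absurd ha (Finset.notMem_empty a)⟩
  | insert a F _ ih =>
    obtain ⟨S, hS, hS'⟩ := ih fun b hb => hQ b (Finset.mem_insert_of_mem hb)
    obtain ⟨R, hR, hR'⟩ := hQ a (Finset.mem_insert_self a F)
    refine ⟨R ⊓ S, J.intersection_covering hR hS, fun V h hh b hb => ?_⟩
    rcases Finset.mem_insert.1 hb with rfl | hb
    · exact hR' h hh.1
    · exact hS' h hh.2 b hb

theorem exists_cone (hP : LocFill J P) {U : C} (b : Sx P 0 U) : ∀ (m : ℕ) (T : Finset (Sx P m U)),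
    ∃ S ∈ J U, ∀ ⦃V : C⦄ (h : V ⟶ U), S.arrows h → ∃ c, Cone P b m h (T : Set (Sx P m U)) c := by
  classical
  intro m
  induction m with
  | zero =>
    intro T
    obtain ⟨S, hS, hS'⟩ := exists_common T
      (fun s V h => ∃ z : Sx P 1 V, d P 0 z = rs P h s ∧ d P 1 z = rs P h b) (fun s _ => hP.fill₀ U s b)
    obtain ⟨R, hR, hR'⟩ := hP.fill₀ U b b
    refine ⟨S ⊓ R, J.intersection_covering hS hR, fun V h hh => ?_⟩
    refine ⟨fun s => if hs : s ∈ T then (hS' h hh.1 s hs).choose else (hR' h hh.2).choose, fun s hs => ?_⟩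
    have hs' : s ∈ T := hs
    dsimp only
    rw [dif_pos hs']
    exact (hS' h hh.1 s hs').choose_spec
  | succ m ih =>
    intro T
    obtain ⟨S, hS, hS'⟩ := ih (Finset.univ.biUnion fun i : Fin (m + 2) => T.image (d P i))
    -- refine once more to fill the boundaries
    have key : ∀ ⦃V : C⦄ (h : V ⟶ U), S.arrows h → ∃ R ∈ J V, ∀ ⦃W : C⦄ (g : W ⟶ V), R.arrows g →
        ∃ c, Cone P b (m + 1) (g ≫ h) (T : Set (Sx P (m + 1) U)) c := by
      intro V h hh
      obtain ⟨c', hc'⟩ := hS' h hh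
      have hmem : ∀ s ∈ T, ∀ i : Fin (m + 2),
          d P i s ∈ ((Finset.univ.biUnion fun i : Fin (m + 2) => T.image (d P i) : Finset _) : Set _) :=
        fun s hs i => Finset.mem_coe.2 (Finset.mem_biUnion.2 ⟨i, Finset.mem_univ _, Finset.mem_image_of_mem _ hs⟩)
      let y : Sx P (m + 1) U → Fin (m + 3) → Sx P (m + 1) V := fun s =>
        Fin.cons (rs P h s) (fun i => c' (d P i s))
      have hy : ∀ s ∈ T, ∀ i j : Fin (m + 2), i ≤ j → d P i (y s j.succ) = d P j (y s i.castSucc) := by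
        intro s hs i j hij
        induction i using Fin.cases with
        | zero =>
          simp only [y, Fin.cons_succ, Fin.castSucc_zero, Fin.cons_zero]
          rw [Cone.head P hc' _ (hmem s hs j), d_rs]
        | succ i' =>
          have hj : j ≠ 0 := fun e => by simp [e] at hij
          obtain ⟨j', rfl⟩ := Fin.exists_succ_eq.mpr hj
          simp only [y, Fin.cons_succ, ← Fin.succ_castSucc]
          cases m with
          | zero =>
            obtain rfl : i' = 0 := Fin.fin_one_eq_zero i'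
            obtain rfl : j' = 0 := Fin.fin_one_eq_zero j'
            exact ((hc' _ (hmem s hs _)).2).trans ((hc' _ (hmem s hs _)).2).symm
          | succ m =>
            obtain ⟨c'', -, hc'c⟩ := hc'
            rw [(hc'c _ (hmem s hs _)).2 i', (hc'c _ (hmem s hs _)).2 j',
              d_d P (Fin.succ_le_succ_iff.mp hij) s]
      obtain ⟨R, hR, hR'⟩ := exists_common T
        (fun s W g => ∃ z : Sx P (m + 2) W, ∀ i, d P i z = rs P g (y s i))
        (fun s hs => hP.fill m V (y s) (hy s hs))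
      refine ⟨R, hR, fun W g hg => ?_⟩
      refine ⟨fun s => if hs : s ∈ T then (hR' g hg s hs).choose else
        (P.map (SimplexCategory.σ (0 : Fin (m + 2))).op).app (op W) (rs P (g ≫ h) s),
        fun t => rs P g (c' t), ?_, fun s hs => ?_⟩
      · have e : (⋃ i : Fin (m + 2), d P i '' (T : Set (Sx P (m + 1) U))) =
            ((Finset.univ.biUnion fun i : Fin (m + 2) => T.image (d P i) : Finset _) : Set _) := by
          ext t
          simp
        rw [e]
        exact Cone.restrict P g hc'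
      · have hs' : s ∈ T := hs
        dsimp only
        rw [dif_pos hs']
        refine ⟨((hR' g hg s hs').choose_spec 0).trans ?_, fun i => ((hR' g hg s hs').choose_spec i.succ).trans ?_⟩
        · simp only [y, Fin.cons_zero, rs_rs]
        · simp only [y, Fin.cons_succ]
    choose R hR hR' using key
    refine ⟨Sieve.bind S.arrows fun V h hh => R h hh, J.bind_covering hS fun V h hh => hR h hh, fun W f hf => ?_⟩
    obtain ⟨V, g, h, hh, hg, rfl⟩ := hf
    exact hR' h hh g hg

end Groth.Agent.HypAcyc
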