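import Groth.Agent.HypAcyc.Cone
import Groth.Agent.HypSite.Basic

/-!
Hypercoverings of the final object give simplicial presheaves with local fillers.
-/

set_option autoImplicit false
set_option backward.isDefEq.respectTransparency false

universe u

open CategoryTheory CategoryTheory.Limits Opposite Simplicial
open Groth.Agent.HypSite (el exists_el map_el res_el)

noncomputable section

namespace Groth.Agent.HypAcyc

variable {C : Type u} [SmallCategory C] {J : GrothendieckTopology C}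
  (K : SimplicialObject (FormalCoproduct.{u} C))

/-- the simplicial presheaf of sets `F(K)` -/
abbrev pre : SimplicialObject (Cᵒᵖ ⥤ Type u) := K ⋙ FormalCoproduct.yoneda

/-- morphisms from single objects into `L`, as a presheaf -/
def homPre (L : FormalCoproduct.{u} C) : Cᵒᵖ ⥤ Type u :=
  (FormalCoproduct.incl C).op ⋙ CategoryTheory.yoneda.obj L

/-- `el` is injective -/
theorem el_injective {L : FormalCoproduct.{u} C} {U : C} :
    Function.Injective (el : ((FormalCoproduct.incl C).obj U ⟶ L) → (FormalCoproduct.yoneda.obj L).obj (op U)) := by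
  let ρ : FormalCoproduct.yoneda.obj L ⟶ homPre L := Sigma.desc fun i =>
    { app := fun V => TypeCat.ofHom fun g => (FormalCoproduct.Hom.fromIncl i g : (FormalCoproduct.incl C).obj V.unop ⟶ L)
      naturality := fun V W θ => by
        ext g
        exact HypSite.hom_ext rfl (by simp [FormalCoproduct.incl, homPre]) }
  refine Function.LeftInverse.injective (g := fun s => ρ.app (op U) s) fun χ => ?_
  show (Sigma.ι (fun i => CategoryTheory.yoneda.obj (L.obj i)) (χ.f PUnit.unit) ≫ ρ).app (op U) (χ.φ PUnit.unit) = χ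
  rw [Sigma.ι_desc]
  exact HypSite.hom_ext rfl (by simp)

theorem snd_lift_app {A B D : Cᵒᵖ ⥤ Type u} (f : D ⟶ A) (g : D ⟶ B) (V : Cᵒᵖ) (w : D.obj V) :
    (prod.snd : A ⨯ B ⟶ B).app V ((prod.lift f g).app V w) = g.app V w :=
  ConcreteCategory.congr_hom (congrArg (fun t : D ⟶ B => t.app V) (prod.lift_snd f g)) w

theorem fst_lift_app {A B D : Cᵒᵖ ⥤ Type u} (f : D ⟶ A) (g : D ⟶ B) (V : Cᵒᵖ) (w : D.obj V) :
    (prod.fst : A ⨯ B ⟶ A).app V ((prod.lift f g).app V w) = f.app V w :=
  ConcreteCategory.congr_hom (congrArg (fun t : D ⟶ A => t.app V) (prod.lift_fst f g)) w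

/-- faces and `el` -/
theorem d_el {m : ℕ} {U : C} (i : Fin (m + 2)) (χ : (FormalCoproduct.incl C).obj U ⟶ K.obj (op ⦋m + 1⦌)) :
    d (pre K) i (el χ) = el (χ ≫ K.δ i) :=
  map_el (K.δ i) χ

/-- the simplicial object `U ⊗ Δ[n]` -/
def simp' (U : C) (n : ℕ) : SimplicialObject (FormalCoproduct.{u} C) where
  obj a := ⟨ULift.{u} (a.unop ⟶ ⦋n⦌), fun _ => U⟩
  map θ := ⟨fun a => ⟨θ.unop ≫ a.down⟩, fun _ => 𝟙 U⟩
  map_id a := FormalCoproduct.hom_ext (funext fun a => ULift.ext _ _ (Category.id_comp _)) fun a => by simp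
  map_comp θ θ' := FormalCoproduct.hom_ext (funext fun a => ULift.ext _ _ (Category.assoc _ _ _)) fun a => by simp

theorem ext_incl {X Y : FormalCoproduct.{u} C} {f g : X ⟶ Y}
    (h : ∀ i, FormalCoproduct.Hom.fromIncl i (𝟙 _) ≫ f = FormalCoproduct.Hom.fromIncl i (𝟙 _) ≫ g) : f = g := by
  rw [FormalCoproduct.hom_ext_iff']
  intro i
  obtain ⟨h₁, h₂⟩ := (FormalCoproduct.hom_ext_iff' _ _).1 (h i) PUnit.unit
  exact ⟨h₁, (Category.id_comp _).symm.trans (((Category.assoc _ _ _).symm.trans h₂).trans (Category.id_comp _))⟩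

theorem incl_simp'_map (U : C) (n : ℕ) {a b : SimplexCategory} (θ : b ⟶ a) (σ : a ⟶ ⦋n⦌) :
    FormalCoproduct.Hom.fromIncl (⟨σ⟩ : ((simp' U n).obj (op a)).I) (𝟙 U) ≫ (simp' U n).map θ.op =
      FormalCoproduct.Hom.fromIncl (⟨θ ≫ σ⟩ : ((simp' U n).obj (op b)).I) (𝟙 U) :=
  HypSite.hom_ext rfl (by simp [simp'])

variable {U : C} {m : ℕ} (c : Fin (m + 3) → ((FormalCoproduct.incl C).obj U ⟶ K.obj (op ⦋m + 1⦌)))

theorem face_eq (hc : ∀ i j : Fin (m + 2), i ≤ j → c j.succ ≫ K.δ i = c i.castSucc ≫ K.δ j)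
    {a : SimplexCategory} {i j : Fin (m + 3)} (θ θ' : a ⟶ ⦋m + 1⦌)
    (h : θ ≫ SimplexCategory.δ i = θ' ≫ SimplexCategory.δ j) :
    c i ≫ K.map θ.op = c j ≫ K.map θ'.op := by
  wlog hij : i ≤ j generalizing i j θ θ'
  · exact (this θ' θ h.symm (le_of_not_ge hij)).symm
  rcases hij.eq_or_lt with rfl | hlt
  · rw [(cancel_mono (SimplexCategory.δ i)).1 h]
  obtain ⟨i, rfl⟩ := Fin.exists_castSucc_eq.mpr (Fin.ne_last_of_lt hlt)
  obtain ⟨j, rfl⟩ := Fin.exists_succ_eq.mpr (Fin.ne_zero_of_lt hlt)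
  have hij' : i ≤ j := Fin.castSucc_lt_succ_iff.mp hlt
  -- `θ'` misses `i`
  have hmiss : ∀ x, θ'.toOrderHom x ≠ i := by
    intro x hx
    have h1 := congrArg (fun q : a ⟶ ⦋m + 2⦌ => q.toOrderHom x) h
    simp only [SimplexCategory.comp_toOrderHom, OrderHom.comp_coe, Function.comp_apply] at h1
    rw [hx] at h1
    have h2 : (SimplexCategory.δ j.succ).toOrderHom i = i.castSucc :=
      Fin.succAbove_of_castSucc_lt _ _ (Fin.castSucc_lt_succ_iff.mpr hij')
    rw [h2] at h1
    exact Fin.succAbove_ne _ _ h1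
  obtain ⟨w, rfl⟩ := SimplexCategory.eq_comp_δ_of_not_surjective' θ' i hmiss
  have hθ : θ = w ≫ SimplexCategory.δ j := by
    rw [← cancel_mono (SimplexCategory.δ i.castSucc), h, Category.assoc, Category.assoc,
      SimplexCategory.δ_comp_δ hij']
  subst hθ
  simp only [op_comp, Functor.map_comp]
  rw [← Category.assoc, ← Category.assoc]
  exact congrArg (· ≫ K.map w.op) (hc i j hij').symm

theorem locFill [∀ (n : ℕ) (F : (SimplexCategory.Truncated n)ᵒᵖ ⥤ FormalCoproduct.{u} C),
      (SimplexCategory.Truncated.inclusion n).op.HasRightKanExtension F]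
    (hK : Hyper.IsHypercoveringSite J K) : LocFill J (pre K) where
  nonempty U := by
    let t : (⊤_ (Cᵒᵖ ⥤ Type u)).obj (op U) :=
      yonedaEquiv (terminal.from (CategoryTheory.yoneda.obj U))
    refine ⟨_, hK.1.imageSieve_mem t, fun V h hh => ?_⟩
    obtain ⟨x, -⟩ := hh
    exact ⟨x⟩
  fill₀ U a b := by
    let ab := yonedaEquiv (prod.lift ((yonedaEquiv (F := (pre K).obj (op ⦋0⦌))).symm b)
      ((yonedaEquiv (F := (pre K).obj (op ⦋0⦌))).symm a))
    refine ⟨_, hK.2.1.imageSieve_mem ab, fun V h hh => ?_⟩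
    obtain ⟨z, hz⟩ := hh
    refine ⟨z, ?_, ?_⟩
    · have h1 := congrArg (fun q => (prod.snd : (pre K).obj (op ⦋0⦌) ⨯ (pre K).obj (op ⦋0⦌) ⟶ _).app (op V) q) hz
      refine ((snd_lift_app _ _ _ _).symm.trans h1).trans ?_
      refine (ConcreteCategory.congr_hom
        ((prod.snd : (pre K).obj (op ⦋0⦌) ⨯ (pre K).obj (op ⦋0⦌) ⟶ _).naturality h.op) ab).trans ?_
      exact congrArg _ ((snd_lift_app _ _ _ _).trans (yonedaEquiv.apply_symm_apply a))
    · have h1 := congrArg (fun q => (prod.fst : (pre K).obj (op ⦋0⦌) ⨯ (pre K).obj (op ⦋0⦌) ⟶ _).app (op V) q) hz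
      refine ((fst_lift_app _ _ _ _).symm.trans h1).trans ?_
      refine (ConcreteCategory.congr_hom
        ((prod.fst : (pre K).obj (op ⦋0⦌) ⨯ (pre K).obj (op ⦋0⦌) ⟶ _).naturality h.op) ab).trans ?_
      exact congrArg _ ((fst_lift_app _ _ _ _).trans (yonedaEquiv.apply_symm_apply b))
  fill m U y hy := by
    choose c hc using fun i => exists_el (y i)
    have hc' : ∀ i j : Fin (m + 2), i ≤ j → c j.succ ≫ K.δ i = c i.castSucc ≫ K.δ j := fun i j hij =>
      el_injective ((d_el K i _).symm.trans (by rw [hc, hy i j hij, ← hc, d_el]))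
    have hmiss : ∀ (a : (SimplexCategory.Truncated (m + 1))) (σ : a.obj ⟶ ⦋m + 2⦌),
        ∃ (i : Fin (m + 3)) (θ : a.obj ⟶ ⦋m + 1⦌), σ = θ ≫ SimplexCategory.δ i := fun a σ => by
      refine SimplexCategory.eq_comp_δ_of_not_surjective σ fun hs => ?_
      have := Fintype.card_le_of_surjective _ hs
      simp only [Fintype.card_fin] at this
      have := a.2
      simp only [SimplexCategory.len_mk] at *
      omega
    choose I Θ hΘ using hmiss
    let G : ∀ (a : SimplexCategory.Truncated (m + 1)), (simp' U (m + 2)).obj (op a.obj) ⟶ K.obj (op a.obj) := fun a =>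
      ⟨fun σ => (c (I a σ.down) ≫ K.map (Θ a σ.down).op).f PUnit.unit,
        fun σ => (c (I a σ.down) ≫ K.map (Θ a σ.down).op).φ PUnit.unit⟩
    have hG : ∀ (a : SimplexCategory.Truncated (m + 1)) (σ : a.obj ⟶ ⦋m + 2⦌),
        (FormalCoproduct.Hom.fromIncl (⟨σ⟩ : ((simp' U (m + 2)).obj (op a.obj)).I) (𝟙 U)) ≫ G a =
          c (I a σ) ≫ K.map (Θ a σ).op :=
      fun a σ => HypSite.hom_ext rfl (by
        show (𝟙 U ≫ (c (I a σ) ≫ K.map (Θ a σ).op).φ PUnit.unit) ≫ eqToHom _ = _
        simp)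
    let φ : (SimplicialObject.truncation (m + 1)).obj (simp' U (m + 2)) ⟶ (SimplicialObject.truncation (m + 1)).obj K :=
      { app a := G a.unop
        naturality a a' θ := by
          show (simp' U (m + 2)).map θ.unop.hom.op ≫ G a'.unop = G a.unop ≫ K.map θ.unop.hom.op
          refine ext_incl fun σ => ?_
          rw [← Category.assoc, ← Category.assoc]
          refine (congrArg (· ≫ G a'.unop) (incl_simp'_map U (m + 2) θ.unop.hom σ.down)).trans ?_
          refine ((hG a'.unop _).trans ?_).trans (congrArg (· ≫ K.map θ.unop.hom.op) (hG a.unop σ.down)).symm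
          rw [Category.assoc, ← K.map_comp, ← op_comp]
          exact (face_eq K c hc' _ _ (by rw [Category.assoc, ← hΘ, ← hΘ])).symm }
    let ε := (SimplicialObject.coskAdj (m + 1)).homEquiv _ _ φ
    let e₁ : (FormalCoproduct.incl C).obj U ⟶ (simp' U (m + 2)).obj (op ⦋m + 2⦌) := .fromIncl ⟨𝟙 _⟩ (𝟙 U)
    refine ⟨_, (hK.2.2 (m + 1) (Nat.le_add_left 1 m)).imageSieve_mem (el (e₁ ≫ ε.app (op ⦋m + 2⦌))),
      fun V h hh => ?_⟩
    obtain ⟨z, hz⟩ := hh
    obtain ⟨χ, rfl⟩ := exists_el z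
    refine ⟨el χ, fun i => ?_⟩
    have hχ : χ ≫ ((SimplicialObject.coskAdj (m + 1)).unit.app K).app (op ⦋m + 2⦌) =
        (FormalCoproduct.incl C).map h ≫ e₁ ≫ ε.app (op ⦋m + 2⦌) :=
      el_injective ((map_el _ χ).symm.trans (hz.trans (res_el h _)))
    let z₁ : (SimplexCategory.Truncated (m + 1))ᵒᵖ := op ⟨⦋m + 1⦌, le_rfl⟩
    have hη : ((SimplicialObject.coskAdj (m + 1)).unit.app K).app (op ⦋m + 1⦌) ≫
        ((SimplicialObject.coskAdj (m + 1)).counit.app ((SimplicialObject.truncation (m + 1)).obj K)).app z₁ = 𝟙 _ :=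
      congr_arg (fun t => t.app z₁)
        ((SimplicialObject.coskAdj (C := FormalCoproduct.{u} C) (m + 1)).left_triangle_components K)
    have hε : ε.app (op ⦋m + 1⦌) ≫
        ((SimplicialObject.coskAdj (m + 1)).counit.app ((SimplicialObject.truncation (m + 1)).obj K)).app z₁ =
        φ.app z₁ :=
      congr_arg (fun t : (SimplicialObject.truncation (m + 1)).obj (simp' U (m + 2)) ⟶
          (SimplicialObject.truncation (m + 1)).obj K => NatTrans.app t z₁)
        ((Adjunction.homEquiv_counit (SimplicialObject.coskAdj (m + 1)) _ _ _).symm.trans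
          (((SimplicialObject.coskAdj (C := FormalCoproduct.{u} C) (m + 1)).homEquiv (simp' U (m + 2))
            ((SimplicialObject.truncation (m + 1)).obj K)).symm_apply_apply φ))
    have hface : χ ≫ K.δ i = (FormalCoproduct.incl C).map h ≫ e₁ ≫ (simp' U (m + 2)).δ i ≫ G z₁.unop := by
      calc χ ≫ K.δ i
          = χ ≫ K.δ i ≫ ((SimplicialObject.coskAdj (m + 1)).unit.app K).app (op ⦋m + 1⦌) ≫
              ((SimplicialObject.coskAdj (m + 1)).counit.app ((SimplicialObject.truncation (m + 1)).obj K)).app z₁ := by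
            rw [hη]; simp
        _ = (χ ≫ ((SimplicialObject.coskAdj (m + 1)).unit.app K).app (op ⦋m + 2⦌)) ≫
              ((SimplicialObject.Truncated.cosk (m + 1)).obj ((SimplicialObject.truncation (m + 1)).obj K)).δ i ≫
              ((SimplicialObject.coskAdj (m + 1)).counit.app ((SimplicialObject.truncation (m + 1)).obj K)).app z₁ := by
            rw [Category.assoc]
            exact congrArg (χ ≫ ·) (((Category.assoc _ _ _).symm.trans (congrArg (· ≫ _)
              (((SimplicialObject.coskAdj (m + 1)).unit.app K).naturality (SimplexCategory.δ i).op))).trans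
                (Category.assoc _ _ _))
        _ = (FormalCoproduct.incl C).map h ≫ e₁ ≫ (simp' U (m + 2)).δ i ≫ ε.app (op ⦋m + 1⦌) ≫
              ((SimplicialObject.coskAdj (m + 1)).counit.app ((SimplicialObject.truncation (m + 1)).obj K)).app z₁ := by
            rw [hχ]
            simp only [SimplicialObject.δ, Category.assoc]
            rw [← NatTrans.naturality_assoc]
        _ = (FormalCoproduct.incl C).map h ≫ e₁ ≫ (simp' U (m + 2)).δ i ≫ G z₁.unop := by
            rw [hε]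
    have he : e₁ ≫ (simp' U (m + 2)).δ i =
        FormalCoproduct.Hom.fromIncl (⟨SimplexCategory.δ i⟩ : ((simp' U (m + 2)).obj (op ⦋m + 1⦌)).I) (𝟙 U) :=
      HypSite.hom_ext (ULift.ext _ _ (Category.comp_id _)) (by simp [e₁, simp', SimplicialObject.δ])
    have hfin : e₁ ≫ (simp' U (m + 2)).δ i ≫ G z₁.unop = c i := by
      rw [← Category.assoc, he]
      refine (hG z₁.unop (SimplexCategory.δ i)).trans ?_
      rw [face_eq K c hc' (j := i) (Θ z₁.unop (SimplexCategory.δ i)) (𝟙 _) (by rw [← hΘ, Category.id_comp])]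
      exact (congrArg (c i ≫ ·) (K.map_id _)).trans (Category.comp_id _)
    rw [d_el, hface, hfin, ← res_el, hc]
    rfl

end Groth.Agent.HypAcyc
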