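import Groth.Agent.HypAcyc.Cech
import Groth.Agent.SiteCoh.Over
import Groth.Agent.HypSite.Basic

/-!
Čech cohomology of hypercoverings of sheaves which are acyclic on all objects.
-/

set_option autoImplicit false
set_option backward.isDefEq.respectTransparency false

universe u

open CategoryTheory CategoryTheory.Limits Opposite Simplicial
open Groth.Agent.SiteCoh (restrU embedSeq embedSeq_shortExact)

noncomputable section

namespace Groth.Agent.HypAcyc

variable {C : Type u} [SmallCategory C] {J : GrothendieckTopology C}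

/-- left exactness on sections -/
theorem exists_of_g_eq_zero (S : ShortComplex (Sheaf J AddCommGrpCat.{u})) (hS : S.ShortExact) {U : C}
    (t : S.X₂.obj.obj (op U)) (ht : S.g.hom.app (op U) t = 0) : ∃ a, S.f.hom.app (op U) a = t := by
  have := hS.mono_f
  have h : (SiteCoh.secEquiv U S.X₂).symm t ≫ S.g = 0 := (SiteCoh.secEquiv U S.X₃).injective (by
    rw [SiteCoh.secEquiv_comp, AddEquiv.apply_symm_apply, ht, map_zero])
  refine ⟨SiteCoh.secEquiv U S.X₁ (hS.exact.lift _ h), ?_⟩
  rw [← SiteCoh.secEquiv_comp, hS.exact.lift_f, AddEquiv.apply_symm_apply]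

theorem injective_f (S : ShortComplex (Sheaf J AddCommGrpCat.{u})) (hS : S.ShortExact) {U : C} :
    Function.Injective (S.f.hom.app (op U)) := by
  have := hS.mono_f
  intro a b h
  apply (SiteCoh.secEquiv U S.X₁).symm.injective
  rw [← cancel_mono S.f]
  apply (SiteCoh.secEquiv U S.X₂).injective
  rw [SiteCoh.secEquiv_comp, SiteCoh.secEquiv_comp, AddEquiv.apply_symm_apply, AddEquiv.apply_symm_apply, h]

variable {X : C} {K : SimplicialObject (FormalCoproduct.{u} (Over X))}

/-- exactness of the Čech complex of sheaves acyclic on all objects -/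
theorem exists_cd_eq_acyclic (hP : LocFill (J.over X) (pre K)) (n : ℕ) :
    ∀ (F : Sheaf J AddCommGrpCat.{u}), (∀ (U : C) (q : ℕ), Subsingleton (CohSite.HU F (q + 1) U)) →
      ∀ c : Co K ((restrU J X).obj F).obj (n + 1), cd c = 0 →
        ∃ b : Co K ((restrU J X).obj F).obj n, cd b = c := by
  induction n with
  | zero =>
    intro F hF c hc
    let R := restrU J X
    let S := embedSeq F
    have hS : S.ShortExact := embedSeq_shortExact F
    obtain ⟨b, hb⟩ := exists_cd_eq hP (R.obj S.X₂)
      (fun i => (R.map S.f).hom.app _ (c i)) (by rw [cd_map, hc]; funext i; exact map_zero _)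
    have hb' : cd (fun i => (R.map S.g).hom.app _ (b i)) = 0 := by
      rw [cd_map, hb]
      funext i
      exact (ConcreteCategory.congr_hom (congrArg (fun t : S.X₁ ⟶ S.X₃ => t.hom.app _) S.zero) (c i))
    obtain ⟨s, hs, hs'⟩ := exists_global hP hb'
    haveI : Subsingleton (CohSite.HU S.X₁ 1 X) := hF X 0
    obtain ⟨t, ht⟩ := SiteCoh.sections_surjective hS X (s (Over.mk (𝟙 X)))
    let r : Co K (R.obj S.X₂).obj 0 := fun i => S.X₂.obj.map ((K.obj (op ⦋0⦌)).obj i).hom.op t
    have hr : cd r = 0 := by
      funext i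
      refine (Fin.sum_univ_two _).trans ?_
      simp only [Fin.val_zero, pow_zero, one_smul, Fin.val_one, pow_one, neg_one_smul]
      show S.X₂.obj.map ((K.δ 0).φ i).left.op (r _) + -S.X₂.obj.map ((K.δ 1).φ i).left.op (r _) = 0
      simp only [r, ← ConcreteCategory.comp_apply, ← Functor.map_comp, ← op_comp, Over.w]
      exact add_neg_cancel _
    have hg : ∀ i, S.g.hom.app _ ((b - r) i : S.X₂.obj.obj (op ((K.obj (op ⦋0⦌)).obj i).left)) = 0 := by
      intro i
      rw [Pi.sub_apply, map_sub, sub_eq_zero]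
      refine (hs' i).symm.trans ?_
      refine Eq.trans ?_ (ConcreteCategory.congr_hom (S.g.hom.naturality ((K.obj (op ⦋0⦌)).obj i).hom.op) t).symm
      refine Eq.trans ?_ (congrArg (S.X₃.obj.map ((K.obj (op ⦋0⦌)).obj i).hom.op) ht.symm)
      exact (hs (Over.homMk ((K.obj (op ⦋0⦌)).obj i).hom :
        (K.obj (op ⦋0⦌)).obj i ⟶ Over.mk (𝟙 X))).symm
    choose a ha using fun i => exists_of_g_eq_zero S hS _ (hg i)
    refine ⟨a, ?_⟩
    funext i
    apply injective_f S hS
    refine (congrFun (cd_map (R.map S.f).hom a) i).symm.trans ?_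
    rw [show (fun i => (R.map S.f).hom.app _ (a i)) = b - r from funext ha, cd_sub, hb, hr, sub_zero]
    rfl
  | succ n ih =>
    intro F hF c hc
    let R := restrU J X
    let S := embedSeq F
    have hS : S.ShortExact := embedSeq_shortExact F
    obtain ⟨b, hb⟩ := exists_cd_eq hP (R.obj S.X₂)
      (fun i => (R.map S.f).hom.app _ (c i)) (by rw [cd_map, hc]; funext i; exact map_zero _)
    have hb' : cd (fun i => (R.map S.g).hom.app _ (b i)) = 0 := by
      rw [cd_map, hb]
      funext i
      exact (ConcreteCategory.congr_hom (congrArg (fun t : S.X₁ ⟶ S.X₃ => t.hom.app _) S.zero) (c i))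
    obtain ⟨e, he⟩ := ih S.X₃ (fun U q => SiteCoh.acyclic_quotient U (hF U) q) _ hb'
    choose e' he' using fun i =>
      haveI : Subsingleton (CohSite.HU S.X₁ 1 ((K.obj (op ⦋n⦌)).obj i).left) := hF _ 0
      SiteCoh.sections_surjective hS ((K.obj (op ⦋n⦌)).obj i).left (e i)
    let e'' : Co K (R.obj S.X₂).obj n := e'
    have hg : ∀ i, S.g.hom.app _ ((b - cd e'') i : S.X₂.obj.obj (op ((K.obj (op ⦋n + 1⦌)).obj i).left)) = 0 := by
      intro i
      rw [Pi.sub_apply, map_sub, sub_eq_zero]
      refine Eq.trans ?_ (congrFun (cd_map (R.map S.g).hom e'') i)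
      rw [show (fun i => (R.map S.g).hom.app _ (e'' i)) = e from funext he', he]
      rfl
    choose a ha using fun i => exists_of_g_eq_zero S hS _ (hg i)
    refine ⟨a, ?_⟩
    funext i
    apply injective_f S hS
    refine (congrFun (cd_map (R.map S.f).hom a) i).symm.trans ?_
    rw [show (fun i => (R.map S.f).hom.app _ (a i)) = b - cd e'' from funext ha, cd_sub, hb, cd_cd, sub_zero]
    rfl

end Groth.Agent.HypAcyc
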